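import Cfsg.Agent.Lib.Solvable.CoprimeGeneration
import Cfsg.Agent.Lib.Solvable.CoprimeAbelian
import Cfsg.Agent.Lib.Solvable.FixedPointFree
import Cfsg.Agent.Lib.Solvable.Core
import Cfsg.Agent.Lib.Solvable.Hall
import Cfsg.Agent.Lib.CN.Nilpotent
import Cfsg.Agent.Lib.PGroup.CyclicMaximal
import Mathlib.Tactic.Group
import Mathlib.Tactic.NoncommRing

/-!
Tools for solvable groups without elements of order `abc`: coprime fixed point lemmas, rank two
subgroups, centres of order `r` elements, Lucido's three primes lemma.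
-/

set_option autoImplicit false
open Subgroup
open scoped commutatorElement

namespace CfsgLib.FourPrimes

variable {G : Type*} [Group G]

/-- `w` commutes with an element of order `t` of `M`. -/
def Meet (t : ℕ) (M : Subgroup G) (w : G) : Prop := ∃ x ∈ M, x ≠ 1 ∧ x ^ t = 1 ∧ Commute w x

/-- An elementary abelian group of order `s ^ 2`. -/
structure El (s : ℕ) (E : Subgroup G) : Prop where
  prime : s.Prime
  comm : ∀ a ∈ E, ∀ b ∈ E, a * b = b * a
  pow : ∀ a ∈ E, a ^ s = 1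
  card : Nat.card E = s ^ 2

/-- `L` contains an elementary abelian group of order `s ^ 2`. -/
def Rk (s : ℕ) (L : Subgroup G) : Prop := ∃ E, E ≤ L ∧ El s E

theorem conj_mem {M : Subgroup G} {g m : G} (hg : g ∈ normalizer (M : Set G)) (hm : m ∈ M) :
    g * m * g⁻¹ ∈ M :=
  ((mem_normalizer_iff.mp hg) m).mp hm

theorem conj_mem' {M : Subgroup G} {g m : G} (hg : g ∈ normalizer (M : Set G)) (hm : m ∈ M) :
    g⁻¹ * m * g ∈ M := by
  simpa using conj_mem (inv_mem hg) hm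

/-- Elements commuting with `S` and normalising `M` normalise `M ⊓ centralizer S`. -/
theorem mem_normalizer_inf_centralizer {M : Subgroup G} {S : Set G} {g : G}
    (hg : g ∈ normalizer (M : Set G)) (hc : ∀ y ∈ S, Commute g y) :
    g ∈ normalizer ((M ⊓ centralizer S : Subgroup G) : Set G) :=
  inf_normalizer_le_normalizer_inf
    ⟨hg, le_normalizer (mem_centralizer_iff.mpr fun y hy => (hc y hy).eq.symm)⟩

theorem commute_of_comm_eq {w x : G} (h : w * x * w⁻¹ * x⁻¹ = 1) : Commute w x := by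
  rwa [mul_inv_eq_one, mul_inv_eq_iff_eq_mul] at h

theorem comm_of_commute {w x : G} (h : Commute w x) : w * x * w⁻¹ * x⁻¹ = 1 := by
  rw [h.eq, mul_inv_cancel_right, mul_inv_cancel]

theorem mem_zpowers_symm {s : ℕ} (hs : s.Prime) {a b : G} (ha : a ^ s = 1) (hb : b ∈ zpowers a)
    (hb1 : b ≠ 1) : a ∈ zpowers b := by
  have : Fact s.Prime := ⟨hs⟩
  have ha1 : a ≠ 1 := by
    rintro rfl
    rw [zpowers_one_eq_bot, mem_bot] at hb
    exact hb1 hb
  obtain ⟨k, rfl⟩ := mem_zpowers_iff.mp hb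
  have hco : IsCoprime k (s : ℤ) := by
    refine ((Nat.prime_iff_prime_int.mp hs).coprime_iff_not_dvd.mpr fun ⟨d, hd⟩ => hb1 ?_).symm
    rw [hd, zpow_mul, zpow_natCast, ha, one_zpow]
  obtain ⟨u, v, huv⟩ := hco
  refine mem_zpowers_iff.mpr ⟨u, ?_⟩
  calc (a ^ k) ^ u = (a ^ k) ^ u * (a ^ (s : ℤ)) ^ v := by rw [zpow_natCast, ha, one_zpow, mul_one]
    _ = a := by rw [← zpow_mul, ← zpow_mul, ← zpow_add, mul_comm k u, mul_comm (s : ℤ) v, huv, zpow_one]

/-- A subgroup element of prime order inside a nontrivial power. -/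
theorem exists_pow_prime [Finite G] {t : ℕ} [ht : Fact t.Prime] {M : Subgroup G} (hM : IsPGroup t M)
    {x : G} (hx : x ∈ M) (hx1 : x ≠ 1) : ∃ k : ℕ, x ^ k ≠ 1 ∧ (x ^ k) ^ t = 1 := by
  obtain ⟨n, hn⟩ := hM ⟨x, hx⟩
  have hn' : x ^ t ^ n = 1 := congrArg Subtype.val hn
  clear hn
  induction n generalizing x with
  | zero => simp at hn'; exact absurd hn' hx1
  | succ n ih =>
    by_cases hxt : x ^ t = 1
    · exact ⟨1, by rwa [pow_one], by rwa [pow_one]⟩
    · obtain ⟨k, h1, h2⟩ := ih (pow_mem hx t) hxt (by rw [← pow_mul, ← pow_succ']; exact hn')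
      exact ⟨t * k, by rwa [pow_mul], by rwa [pow_mul]⟩

theorem meet_of_mem [Finite G] {t : ℕ} [Fact t.Prime] {M : Subgroup G} (hM : IsPGroup t M) {x w : G}
    (hx : x ∈ M) (hx1 : x ≠ 1) (hw : Commute w x) : Meet t M w := by
  obtain ⟨k, h1, h2⟩ := exists_pow_prime hM hx hx1
  exact ⟨x ^ k, pow_mem hx k, h1, h2, hw.pow_right k⟩

theorem not_meet_iff [Finite G] {t : ℕ} [Fact t.Prime] {M : Subgroup G} (hM : IsPGroup t M) {w : G}
    (h : ¬ Meet t M w) {x : G} (hx : x ∈ M) (hw : Commute w x) : x = 1 := by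
  by_contra hx1
  exact h (meet_of_mem hM hx hx1 hw)

theorem coprime_card [Finite G] {t t' : ℕ} (ht : t.Prime) (ht' : t'.Prime) (hne : t ≠ t')
    {A B : Subgroup G} (hA : IsPGroup t A) (hB : IsPGroup t' B) :
    (Nat.card A).Coprime (Nat.card B) := by
  have : Fact t.Prime := ⟨ht⟩
  have : Fact t'.Prime := ⟨ht'⟩
  obtain ⟨i, hi⟩ := hA.exists_card_eq
  obtain ⟨j, hj⟩ := hB.exists_card_eq
  rw [hi, hj]
  exact Nat.Coprime.pow i j ((Nat.coprime_primes ht ht').mpr hne)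

theorem isPGroup_zpowers {t : ℕ} {x : G} (hx : x ^ t = 1) : IsPGroup t (zpowers x) := by
  intro y
  obtain ⟨k, hk⟩ := mem_zpowers_iff.mp y.2
  refine ⟨1, Subtype.ext ?_⟩
  rw [SubmonoidClass.coe_pow, pow_one, ← hk, ← zpow_natCast, ← zpow_mul, mul_comm, zpow_mul,
    zpow_natCast, hx, one_zpow]
  rfl

namespace El

variable {s : ℕ} {E : Subgroup G}

theorem isPGroup (h : El s E) : IsPGroup s E := fun a =>
  ⟨1, Subtype.ext (by rw [pow_one]; exact h.pow a a.2)⟩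

theorem map {H : Type*} [Group H] (h : El s E) (f : G →* H)
    (hf : ∀ x ∈ E, f x = 1 → x = 1) : El s (E.map f) := by
  refine ⟨h.prime, ?_, ?_, ?_⟩
  · rintro _ ⟨a, ha, rfl⟩ _ ⟨b, hb, rfl⟩
    rw [← map_mul, ← map_mul, h.comm a ha b hb]
  · rintro _ ⟨a, ha, rfl⟩
    rw [← map_pow, h.pow a ha, map_one]
  · rw [← h.card]
    refine Nat.card_congr (Equiv.ofBijective (fun x : E => (⟨f x, mem_map_of_mem f x.2⟩ : E.map f))
      ⟨fun x y e => Subtype.ext ?_, fun y => ?_⟩).symm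
    · have e' : f x = f y := congrArg Subtype.val e
      exact inv_mul_eq_one.mp (hf _ (mul_mem (inv_mem x.2) y.2) (by rw [map_mul, map_inv, e', inv_mul_cancel]))
    · obtain ⟨x, hx, e⟩ := y.2
      exact ⟨⟨x, hx⟩, Subtype.ext e⟩

variable [Finite G]

theorem exists_not_mem (h : El s E) (b : G) : ∃ c ∈ E, c ∉ zpowers b := by
  by_contra hno
  push Not at hno
  have hcyc : IsCyclic E :=
    isCyclic_of_surjective (subgroupOfEquivOfLe (K := zpowers b) hno).toMonoidHom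
      (subgroupOfEquivOfLe (K := zpowers b) hno).surjective
  obtain ⟨g, hg⟩ := hcyc.exists_generator
  have h1 : orderOf g = s ^ 2 := by rw [orderOf_eq_card_of_forall_mem_zpowers hg, h.card]
  have h2 : orderOf g ≤ s :=
    Nat.le_of_dvd h.prime.pos (orderOf_dvd_of_pow_eq_one (Subtype.ext (h.pow g g.2)))
  nlinarith [h.prime.two_le]

theorem le_of_mem (h : El s E) {W : Subgroup G} {b c : G} (hbE : b ∈ E) (hcE : c ∈ E) (hb : b ∈ W)
    (hc : c ∈ W) (hb1 : b ≠ 1) (hcb : c ∉ zpowers b) : E ≤ W := by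
  have : Fact s.Prime := ⟨h.prime⟩
  have hlt : zpowers b < E ⊓ W := by
    refine lt_of_le_of_ne (le_inf (zpowers_le.mpr hbE) (zpowers_le.mpr hb)) fun e => hcb ?_
    rw [e]; exact ⟨hcE, hc⟩
  obtain ⟨i, hi, hiS⟩ := (Nat.dvd_prime_pow h.prime).mp (h.card ▸ card_dvd_of_le (inf_le_left : E ⊓ W ≤ E))
  have hcard : Nat.card (zpowers b) = s := by rw [Nat.card_zpowers, orderOf_eq_prime (h.pow b hbE) hb1]
  have hi2 : i = 2 := by
    by_contra hne
    refine hlt.ne (eq_of_le_of_card_ge hlt.le ?_)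
    rw [hcard, hiS]
    calc s ^ i ≤ s ^ 1 := Nat.pow_le_pow_right h.prime.pos (by omega)
      _ = s := pow_one s
  exact (eq_of_le_of_card_ge (inf_le_left : E ⊓ W ≤ E) (by rw [h.card, hiS, hi2])).ge.trans inf_le_right

theorem commute_all (h : El s E) {x b c : G} (hbE : b ∈ E) (hcE : c ∈ E) (hb : Commute b x)
    (hc : Commute c x) (hb1 : b ≠ 1) (hcb : c ∉ zpowers b) : ∀ w ∈ E, Commute w x := fun w hw =>
  mem_centralizer_singleton_iff.mp ((h.le_of_mem hbE hcE (mem_centralizer_singleton_iff.mpr hb)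
    (mem_centralizer_singleton_iff.mpr hc) hb1 hcb) hw)

/-- Generation by fixed points. -/
theorem gen (h : El s E) {t : ℕ} (ht : t.Prime) (hts : s ≠ t) {M W : Subgroup G} (hM : IsPGroup t M)
    (hEM : E ≤ normalizer (M : Set G))
    (hW : ∀ w ∈ E, w ≠ 1 → ∀ x ∈ M, Commute w x → x ∈ W) : M ≤ W := by
  have : IsMulCommutative E := ⟨⟨fun a b => Subtype.ext (h.comm a a.2 b b.2)⟩⟩
  refine CfsgLib.Solvable.le_of_centralizer_le (A := E) ?_ hEM (coprime_card h.prime ht hts h.isPGroup hM)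
    fun w hw hw1 x hx => hW w hw hw1 x hx.1 (mem_centralizer_singleton_iff.mp hx.2).symm
  intro hcyc
  obtain ⟨g, hg⟩ := hcyc.exists_generator
  obtain ⟨c, hc, hcg⟩ := h.exists_not_mem (g : G)
  obtain ⟨k, hk⟩ := mem_zpowers_iff.mp (hg ⟨c, hc⟩)
  exact hcg (mem_zpowers_iff.mpr ⟨k, congrArg Subtype.val hk⟩)

theorem exists_meet (h : El s E) {t : ℕ} (ht : t.Prime) (hts : s ≠ t) {M : Subgroup G}
    (hM : IsPGroup t M) (hM1 : M ≠ ⊥) (hEM : E ≤ normalizer (M : Set G)) :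
    ∃ w ∈ E, w ≠ 1 ∧ Meet t M w := by
  have : Fact t.Prime := ⟨ht⟩
  by_contra hno
  push Not at hno
  exact hM1 (eq_bot_iff.mpr (h.gen ht hts hM hEM fun w hw hw1 x hx hwx =>
    mem_bot.mpr (not_meet_iff hM (hno w hw hw1) hx hwx)))

end El

/-- The elementary abelian group generated by two independent commuting elements of order `r`. -/
theorem exists_el [Finite G] {r : ℕ} (hr : r.Prime) {a b : G} (ha : a ^ r = 1) (ha1 : a ≠ 1)
    (hb : b ^ r = 1) (hab : Commute a b) (hba : b ∉ zpowers a) {L : Subgroup G} (haL : a ∈ L)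
    (hbL : b ∈ L) : ∃ A ≤ L, El r A ∧ a ∈ A ∧ b ∈ A ∧
      ∀ W : Subgroup G, a ∈ W → b ∈ W → A ≤ W := by
  have : Fact r.Prime := ⟨hr⟩
  refine ⟨zpowers a ⊔ zpowers b, sup_le (zpowers_le.mpr haL) (zpowers_le.mpr hbL), ⟨hr, ?_, ?_, ?_⟩,
    mem_sup_left (mem_zpowers a), mem_sup_right (mem_zpowers b),
    fun W h1 h2 => sup_le (zpowers_le.mpr h1) (zpowers_le.mpr h2)⟩
  all_goals
    have hn : zpowers b ≤ normalizer (zpowers a : Set G) := by
      refine le_trans (zpowers_le.mpr (mem_centralizer_iff.mpr ?_)) (centralizer_le_normalizer _)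
      rintro x ⟨k, rfl⟩
      exact (hab.zpow_left k).eq
  · intro x hx y hy
    have hle : zpowers a ⊔ zpowers b ≤ centralizer ({a, b} : Set G) := by
      refine sup_le (zpowers_le.mpr ?_) (zpowers_le.mpr ?_) <;>
        refine mem_centralizer_iff.mpr ?_ <;> rintro z (rfl | rfl)
      · rfl
      · exact hab.eq.symm
      · exact hab.eq
      · rfl
    have hx' : x ∈ centralizer ({y} : Set G) := by
      refine (sup_le (zpowers_le.mpr ?_) (zpowers_le.mpr ?_) : zpowers a ⊔ zpowers b ≤ centralizer ({y} : Set G)) hx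
      · exact mem_centralizer_singleton_iff.mpr (mem_centralizer_iff.mp (hle hy) a (by simp))
      · exact mem_centralizer_singleton_iff.mpr (mem_centralizer_iff.mp (hle hy) b (by simp))
    exact mem_centralizer_singleton_iff.mp hx'
  · intro x hx
    obtain ⟨u, hu, v, hv, rfl⟩ := (CfsgLib.Solvable.mem_sup_of_le_normalizer hn).mp hx
    obtain ⟨i, rfl⟩ := mem_zpowers_iff.mp hu
    obtain ⟨j, rfl⟩ := mem_zpowers_iff.mp hv
    rw [((hab.zpow_zpow i j)).mul_pow, ← zpow_natCast, ← zpow_natCast (b ^ j), ← zpow_mul, ← zpow_mul,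
      mul_comm i, mul_comm j, zpow_mul, zpow_mul, zpow_natCast, zpow_natCast, ha, hb, one_zpow,
      one_zpow, one_mul]
  · have hdis : Disjoint (zpowers a) (zpowers b) := by
      rw [disjoint_def]
      intro x hxa hxb
      by_contra hx1
      exact hba ((zpowers_le.mpr hxa) (mem_zpowers_symm hr hb hxb hx1))
    have hb1 : b ≠ 1 := fun e => hba (e ▸ one_mem _)
    rw [CfsgLib.Solvable.card_sup_of_disjoint hn hdis, Nat.card_zpowers, Nat.card_zpowers,
      orderOf_eq_prime ha ha1, orderOf_eq_prime hb hb1, sq]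

/-- The central elements of `Y` killed by `t`. -/
def oz (t : ℕ) (Y : Subgroup G) : Subgroup G where
  carrier := {x | x ∈ Y ∧ (∀ y ∈ Y, Commute x y) ∧ x ^ t = 1}
  one_mem' := ⟨one_mem _, fun y _ => Commute.one_left y, one_pow t⟩
  mul_mem' := fun {x x'} hx hx' => ⟨mul_mem hx.1 hx'.1,
    fun y hy => (hx.2.1 y hy).mul_left (hx'.2.1 y hy),
    by rw [(hx.2.1 x' hx'.1).mul_pow, hx.2.2, hx'.2.2, one_mul]⟩
  inv_mem' := fun {x} hx => ⟨inv_mem hx.1, fun y hy => (hx.2.1 y hy).inv_left,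
    by rw [inv_pow, hx.2.2, inv_one]⟩

theorem oz_le (t : ℕ) (Y : Subgroup G) : oz t Y ≤ Y := fun _ h => h.1

theorem isPGroup_oz (t : ℕ) (Y : Subgroup G) : IsPGroup t (oz t Y) := fun x =>
  ⟨1, Subtype.ext (by rw [pow_one]; exact x.2.2.2)⟩

theorem oz_comm (t : ℕ) (Y : Subgroup G) : ∀ a ∈ oz t Y, ∀ b ∈ oz t Y, a * b = b * a :=
  fun _ ha _ hb => (ha.2.1 _ hb.1).eq

theorem normalizer_le_oz (t : ℕ) (Y : Subgroup G) :
    normalizer (Y : Set G) ≤ normalizer (oz t Y : Set G) := by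
  rw [le_normalizer_iff]
  intro g hg x hx
  refine ⟨conj_mem hg hx.1, fun y hy => ?_, by rw [conj_pow, hx.2.2, mul_one, mul_inv_cancel]⟩
  have h := hx.2.1 _ (conj_mem' hg hy)
  show g * x * g⁻¹ * y = y * (g * x * g⁻¹)
  calc g * x * g⁻¹ * y = g * (x * (g⁻¹ * y * g)) * g⁻¹ := by group
    _ = g * ((g⁻¹ * y * g) * x) * g⁻¹ := by rw [h.eq]
    _ = y * (g * x * g⁻¹) := by group

theorem oz_ne_bot [Finite G] {t : ℕ} [ht : Fact t.Prime] {Y : Subgroup G} (hY : IsPGroup t Y)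
    (h1 : Y ≠ ⊥) : oz t Y ≠ ⊥ := by
  haveI := (nontrivial_iff_ne_bot Y).mpr h1
  haveI := hY.center_nontrivial
  obtain ⟨z, hz1⟩ := exists_ne (1 : center Y)
  have hz' : ((z : Y) : G) ≠ 1 := fun e => hz1 (Subtype.ext (Subtype.ext e))
  obtain ⟨k, hk1, hk2⟩ := exists_pow_prime hY (z : Y).2 hz'
  intro e
  apply hk1
  rw [← mem_bot, ← e]
  refine ⟨pow_mem (z : Y).2 k, fun y hy => ?_, hk2⟩
  exact (show Commute ((z : Y) : G) y from
    congrArg Subtype.val (mem_center_iff.mp z.2 ⟨y, hy⟩).symm).pow_left k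

theorem mem_zpowers_of_commute_lt [Finite G] {r s : ℕ} (hr : r.Prime) (hs : s.Prime) (hrs : r ≤ s)
    {u w : G} (hu : u ^ r = 1) (hw : w ^ s = 1) (hn : w ∈ normalizer (zpowers u : Set G)) :
    Commute w u := by
  by_cases hu1 : u = 1
  · rw [hu1]; exact Commute.one_right w
  obtain ⟨k, hk⟩ := mem_zpowers_iff.mp (conj_mem hn (mem_zpowers u))
  have hiter : ∀ n : ℕ, w ^ n * u * (w ^ n)⁻¹ = u ^ (k ^ n) := by
    intro n
    induction n with
    | zero => simp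
    | succ n ih =>
      calc w ^ (n + 1) * u * (w ^ (n + 1))⁻¹ = w ^ n * (w * u * w⁻¹) * (w ^ n)⁻¹ := by
            rw [pow_succ]; group
        _ = (w ^ n * u * (w ^ n)⁻¹) ^ k := by rw [← hk, conj_zpow]
        _ = u ^ (k ^ (n + 1)) := by rw [ih, ← zpow_mul, pow_succ]
  have : Fact r.Prime := ⟨hr⟩
  have hord : orderOf u = r := orderOf_eq_prime hu hu1
  have hks : ((k : ZMod r)) ^ s = 1 := by
    have h := hiter s
    rw [hw, one_mul, inv_one, mul_one] at h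
    have h' : u ^ (1 : ℤ) = u ^ (k ^ s) := by rw [zpow_one]; exact h
    rw [zpow_eq_zpow_iff_modEq, hord] at h'
    simpa using ((ZMod.intCast_eq_intCast_iff _ _ _).mpr h').symm
  have hk1 : (k : ZMod r) = 1 := by
    have hk0 : (k : ZMod r) ≠ 0 := by
      intro e
      rw [e, zero_pow hs.ne_zero] at hks
      exact zero_ne_one hks
    have hcop : Nat.Coprime s (r - 1) := by
      refine hs.coprime_iff_not_dvd.mpr fun hd => ?_
      have := Nat.le_of_dvd (by have := hr.two_le; omega) hd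
      have := hr.two_le
      omega
    have h2 := pow_gcd_eq_one.mpr ⟨hks, ZMod.pow_card_sub_one_eq_one hk0⟩
    rwa [hcop.gcd_eq_one, pow_one] at h2
  have h3 : u ^ k = u := by
    nth_rw 2 [← zpow_one u]
    rw [zpow_eq_zpow_iff_modEq, hord, ← ZMod.intCast_eq_intCast_iff]
    simpa using hk1
  rw [h3] at hk
  exact mul_inv_eq_iff_eq_mul.mp hk.symm

variable [Finite G]

/-- A subgroup `U` of order `r` normalised by an `r`-group `X` containing it is central in `X`. -/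
theorem commute_of_normal_prime {r : ℕ} (hr : r.Prime) {X : Subgroup G} (hX : IsPGroup r X) {u : G}
    (huX : u ∈ X) (hu : u ^ r = 1) (hn : X ≤ normalizer (zpowers u : Set G)) :
    ∀ x ∈ X, Commute u x := by
  have : Fact r.Prime := ⟨hr⟩
  intro x hx
  by_cases hu1 : u = 1
  · rw [hu1]; exact Commute.one_left x
  haveI : ((zpowers u).subgroupOf X).Normal := normal_subgroupOf_of_le_normalizer hn
  have hne : (zpowers u).subgroupOf X ≠ ⊥ := fun e => hu1 <| by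
    have h' : (⟨u, huX⟩ : X) ∈ (zpowers u).subgroupOf X := mem_subgroupOf.mpr (mem_zpowers u)
    rw [e, mem_bot] at h'
    simpa using congrArg Subtype.val h'
  obtain ⟨z, hz, hz1⟩ := CfsgLib.Solvable.exists_ne_one_mem_inf_center_of_normal hX hne
  obtain ⟨k, hk⟩ := mem_zpowers_iff.mp
    (mem_zpowers_symm hr hu (mem_subgroupOf.mp hz.1) fun e => hz1 (Subtype.ext e))
  rw [← hk]
  exact (show Commute (z : G) x from
    (congrArg Subtype.val (mem_center_iff.mp hz.2 ⟨x, hx⟩)).symm).zpow_left k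

/-- Automorphisms of a cyclic group commute. -/
theorem comm_mem_centralizer_of_cyclic {M : Subgroup G} [IsCyclic M] {a b : G}
    (ha : a ∈ normalizer (M : Set G)) (hb : b ∈ normalizer (M : Set G)) :
    a * b * a⁻¹ * b⁻¹ ∈ centralizer (M : Set G) := by
  obtain ⟨g, hg⟩ := IsCyclic.exists_generator (α := M)
  have hgen : ∀ x ∈ M, ∃ k : ℤ, (g : G) ^ k = x := fun x hx => by
    obtain ⟨k, hk⟩ := mem_zpowers_iff.mp (hg ⟨x, hx⟩)
    exact ⟨k, congrArg Subtype.val hk⟩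
  obtain ⟨i, hi⟩ := hgen _ (conj_mem ha g.2)
  obtain ⟨j, hj⟩ := hgen _ (conj_mem hb g.2)
  have hab : (a * b) * (g : G) * (a * b)⁻¹ = (b * a) * (g : G) * (b * a)⁻¹ := by
    calc (a * b) * (g : G) * (a * b)⁻¹ = a * (b * g * b⁻¹) * a⁻¹ := by group
      _ = (g : G) ^ (i * j) := by rw [← hj, ← conj_zpow, ← hi, zpow_mul]
      _ = b * (a * g * a⁻¹) * b⁻¹ := by rw [← hi, ← conj_zpow, ← hj, mul_comm i, zpow_mul]
      _ = _ := by group
  have hc : Commute (a * b * a⁻¹ * b⁻¹) (g : G) := by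
    set g' := (a * b) * (g : G) * (a * b)⁻¹ with hg'
    have h1 : a * b * a⁻¹ * b⁻¹ * g' * (a * b * a⁻¹ * b⁻¹)⁻¹ = g' := by
      calc a * b * a⁻¹ * b⁻¹ * g' * (a * b * a⁻¹ * b⁻¹)⁻¹
          = a * b * a⁻¹ * b⁻¹ * ((b * a) * (g : G) * (b * a)⁻¹) * (a * b * a⁻¹ * b⁻¹)⁻¹ := by rw [hab]
        _ = g' := by rw [hg']; group
    have hmem : g' ∈ M := conj_mem (mul_mem ha hb) g.2
    obtain ⟨m, hm⟩ := hgen _ hmem
    have hgm : (g : G) ∈ zpowers g' := by
      have hinj : Function.Injective (fun x : M => (⟨(a * b) * x * (a * b)⁻¹, conj_mem (mul_mem ha hb) x.2⟩ : M)) :=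
        fun x y e => Subtype.ext (mul_left_cancel (mul_right_cancel (congrArg Subtype.val e)))
      obtain ⟨x, hx⟩ := Finite.surjective_of_injective hinj g
      obtain ⟨l, hl⟩ := hgen x x.2
      refine mem_zpowers_iff.mpr ⟨l, ?_⟩
      rw [hg', conj_zpow, hl]
      exact congrArg Subtype.val hx
    obtain ⟨l, hl⟩ := mem_zpowers_iff.mp hgm
    rw [← hl]
    exact (show Commute _ g' from mul_inv_eq_iff_eq_mul.mp h1).zpow_right l
  refine mem_centralizer_iff.mpr fun x hx => ?_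
  obtain ⟨k, rfl⟩ := hgen x hx
  exact (hc.zpow_right k).eq.symm

/-- An element without fixed points on a `t`-group normalised by an abelian `t'`-group `A` acts
trivially on `A` modulo the centralizer. -/
theorem fpf_lemma [Group.IsSolvable G] {N A : Subgroup G} {w : G} {s t t' : ℕ} (hs : s.Prime)
    (ht : t.Prime) (ht' : t'.Prime) (hts : t ≠ s) (hts' : t' ≠ s) (htt : t ≠ t') (hN : IsPGroup t N)
    (hA : IsPGroup t' A) (hAc : ∀ a ∈ A, ∀ b ∈ A, a * b = b * a) (hw : w ^ s = 1)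
    (hwN : w ∈ normalizer (N : Set G)) (hwA : w ∈ normalizer (A : Set G))
    (hAN : A ≤ normalizer (N : Set G)) (hC : ¬ Meet t N w) :
    ∀ a ∈ A, w * a * w⁻¹ * a⁻¹ ∈ centralizer (N : Set G) := by
  have : Fact t.Prime := ⟨ht⟩
  have : Fact t'.Prime := ⟨ht'⟩
  have : IsMulCommutative A := ⟨⟨fun a b => Subtype.ext (hAc a a.2 b b.2)⟩⟩
  set A0 := ⁅A, zpowers w⁆ with hA0
  have hA0le : A0 ≤ A := CfsgLib.Solvable.commutator_le_of_normalizes (zpowers_le.mpr hwA)
  have hfix0 : ∀ a ∈ A0, Commute w a → a = 1 := by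
    intro a ha hc
    have h1 : a ∈ A ⊓ centralizer (zpowers w : Set G) ⊓ A0 := by
      refine ⟨⟨hA0le ha, mem_centralizer_iff.mpr ?_⟩, ha⟩
      rintro _ ⟨k, rfl⟩
      exact (hc.zpow_left k).eq
    rwa [CfsgLib.Solvable.centralizer_inf_commutator_eq_bot (zpowers_le.mpr hwA)
      (coprime_card hs ht' (Ne.symm hts') (isPGroup_zpowers hw) hA), mem_bot] at h1
  set S := N ⊔ A0 with hS
  have hA0N : A0 ≤ normalizer (N : Set G) := hA0le.trans hAN
  have hwA0 : w ∈ normalizer (A0 : Set G) :=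
    CfsgLib.Solvable.le_normalizer_commutator_right A (zpowers w) (mem_zpowers w)
  have hwS : ∀ y ∈ S, w * y * w⁻¹ ∈ S := by
    intro y hy
    obtain ⟨n, hn, a, ha, rfl⟩ := (CfsgLib.Solvable.mem_sup_of_le_normalizer hA0N).mp hy
    rw [show w * (n * a) * w⁻¹ = (w * n * w⁻¹) * (w * a * w⁻¹) by group]
    exact mul_mem (mem_sup_left (conj_mem hwN hn)) (mem_sup_right (conj_mem hwA0 ha))
  obtain ⟨ψ, hψ⟩ := CfsgLib.Solvable.exists_restrict (MulAut.conj w) S hwS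
  have hψs : ψ ^ s = 1 := by
    refine MulEquiv.ext fun y => Subtype.ext ?_
    rw [CfsgLib.Solvable.restrict_pow hψ, ← map_pow, hw, map_one]
    rfl
  have hψf : ∀ y : S, ψ y = y → y = 1 := by
    intro y hy
    obtain ⟨n, hn, a, ha, hna⟩ := (CfsgLib.Solvable.mem_sup_of_le_normalizer hA0N).mp y.2
    have e : w * (n * a) * w⁻¹ = n * a := by
      rw [hna]
      exact (hψ y).symm.trans (congrArg Subtype.val hy)
    have e' : n⁻¹ * (w * n * w⁻¹) = a * (w * a * w⁻¹)⁻¹ := by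
      calc n⁻¹ * (w * n * w⁻¹) = n⁻¹ * (w * (n * a) * w⁻¹) * (w * a * w⁻¹)⁻¹ := by group
        _ = a * (w * a * w⁻¹)⁻¹ := by rw [e]; group
    have h1 : a * (w * a * w⁻¹)⁻¹ = 1 := by
      refine disjoint_def.mp (disjoint_of_coprime_natCard (coprime_card ht ht' htt hN hA)) ?_
        (mul_mem (hA0le ha) (inv_mem (conj_mem hwA (hA0le ha))))
      rw [← e']
      exact mul_mem (inv_mem hn) (conj_mem hwN hn)
    have ha1 : a = 1 := hfix0 a ha (mul_inv_eq_iff_eq_mul.mp (mul_inv_eq_one.mp h1).symm)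
    have hn1 : n = 1 := not_meet_iff hN hC hn (mul_inv_eq_iff_eq_mul.mp (by simpa [ha1] using e))
    exact Subtype.ext (by rw [← hna, ha1, hn1, one_mul]; rfl)
  have hnil : Group.IsNilpotent S :=
    CfsgLib.Solvable.isNilpotent_of_fpf_solvable hs (Nat.card S) S ψ rfl hψs hψf
  intro a ha
  have hmem : w * a * w⁻¹ * a⁻¹ ∈ A0 := by
    rw [hA0, commutator_comm, ← commutatorElement_def]
    exact commutator_mem_commutator (mem_zpowers w) ha
  refine mem_centralizer_iff.mpr fun n hn => ?_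
  exact CfsgLib.CN.commute_of_nilpotent (p := t) (q := t') htt hnil (mem_sup_left hn)
    (mem_sup_right hmem) (CfsgLib.CN.pElem_of_mem hN hn) (CfsgLib.CN.pElem_of_mem hA (hA0le hmem))

/-- The averaging lemma. -/
theorem avg_lemma {E : Type*} [Ring E] (A : Subgroup Eˣ) [Finite A] (hA : ∀ a ∈ A, ∀ b ∈ A, a * b = b * a)
    (γ : Eˣ) (hγA : ∀ a ∈ A, γ * a * γ⁻¹ ∈ A) {n : ℕ} (hn : 0 < n)
    (hN : ∑ i ∈ Finset.range n, ((γ : E)) ^ i = 0)
    (hpow : ∀ i, 0 < i → i < n → ∀ a ∈ A, γ ^ i * a * (γ ^ i)⁻¹ = a → γ * a * γ⁻¹ = a)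
    (hunit : ∀ x : E, (Nat.card A : E) * x = 0 → x = 0) : ∀ a ∈ A, γ * a * γ⁻¹ = a := by
  classical
  haveI : Fintype A := Fintype.ofFinite A
  have hpA : ∀ i : ℕ, ∀ a ∈ A, γ ^ i * a * (γ ^ i)⁻¹ ∈ A := by
    intro i
    induction i with
    | zero => intro a ha; simpa using ha
    | succ i ih =>
      intro a ha
      rw [show γ ^ (i + 1) * a * (γ ^ (i + 1))⁻¹ = γ ^ i * (γ * a * γ⁻¹) * (γ ^ i)⁻¹ by
        rw [pow_succ]; group]
      exact ih _ (hγA a ha)
  let ψ : ℕ → (A →* A) := fun i => MonoidHom.mk'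
    (fun a => ⟨(a : Eˣ) * (γ ^ i * a * (γ ^ i)⁻¹)⁻¹, mul_mem a.2 (inv_mem (hpA i a a.2))⟩)
    fun a b => Subtype.ext (by
      show (a : Eˣ) * b * (γ ^ i * (a * b) * (γ ^ i)⁻¹)⁻¹ =
        a * (γ ^ i * a * (γ ^ i)⁻¹)⁻¹ * (b * (γ ^ i * b * (γ ^ i)⁻¹)⁻¹)
      have hc := hA _ (mul_mem b.2 (inv_mem (hpA i b b.2))) _ (inv_mem (hpA i a a.2))
      calc (a : Eˣ) * b * (γ ^ i * (a * b) * (γ ^ i)⁻¹)⁻¹
          = a * ((b * (γ ^ i * b * (γ ^ i)⁻¹)⁻¹) * (γ ^ i * a * (γ ^ i)⁻¹)⁻¹) := by group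
        _ = a * ((γ ^ i * a * (γ ^ i)⁻¹)⁻¹ * (b * (γ ^ i * b * (γ ^ i)⁻¹)⁻¹)) := by rw [hc]
        _ = _ := by group)
  have hval : ∀ i (a : A), ((ψ i a : A) : Eˣ) = (a : Eˣ) * (γ ^ i * a * (γ ^ i)⁻¹)⁻¹ := fun i a => rfl
  have hrange : ∀ i, (ψ i).range ≤ (ψ 1).range := by
    intro i
    induction i with
    | zero =>
      rintro _ ⟨a, rfl⟩
      refine ⟨1, Subtype.ext ?_⟩
      rw [map_one, hval]
      simp
    | succ i ih =>
      rintro _ ⟨a, rfl⟩
      have e : ψ (i + 1) a = ψ 1 a * ψ i ⟨γ * a * γ⁻¹, hγA a a.2⟩ := by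
        refine Subtype.ext ?_
        rw [Subgroup.coe_mul, hval, hval, hval, pow_succ]
        group
      rw [e]
      exact mul_mem ⟨a, rfl⟩ (ih ⟨_, rfl⟩)
  have heq : ∀ i, 0 < i → i < n → (ψ i).range = (ψ 1).range := by
    intro i h0 hi
    refine Subgroup.eq_of_le_of_card_ge (hrange i) ?_
    have hk : (ψ i).ker ≤ (ψ 1).ker := by
      intro a ha
      rw [MonoidHom.mem_ker] at ha ⊢
      have h1 : (a : Eˣ) * (γ ^ i * a * (γ ^ i)⁻¹)⁻¹ = 1 := congrArg Subtype.val ha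
      refine Subtype.ext ?_
      rw [hval, pow_one, hpow i h0 hi a a.2 (mul_inv_eq_one.mp h1).symm, mul_inv_cancel]
      rfl
    rw [← Subgroup.index_ker, ← Subgroup.index_ker]
    exact Nat.le_of_dvd (Nat.pos_of_ne_zero Subgroup.index_ne_zero_of_finite) (Subgroup.index_dvd_of_le hk)
  have htot : ∑ i ∈ Finset.range n, (∑ a : A, (((ψ i a : A) : Eˣ) : E)) * (γ : E) ^ i = 0 := by
    calc ∑ i ∈ Finset.range n, (∑ a : A, (((ψ i a : A) : Eˣ) : E)) * (γ : E) ^ i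
        = ∑ a : A, ∑ i ∈ Finset.range n, (((ψ i a : A) : Eˣ) : E) * (γ : E) ^ i := by
          rw [Finset.sum_comm]; exact Finset.sum_congr rfl fun i _ => Finset.sum_mul _ _ _
      _ = ∑ a : A, ((a : Eˣ) : E) * (∑ i ∈ Finset.range n, (γ : E) ^ i) * (((a : Eˣ)⁻¹ : Eˣ) : E) := by
          refine Finset.sum_congr rfl fun a _ => ?_
          rw [Finset.mul_sum, Finset.sum_mul]
          refine Finset.sum_congr rfl fun i _ => ?_
          rw [← Units.val_pow_eq_pow_val, ← Units.val_mul, ← Units.val_mul, ← Units.val_mul, hval]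
          congr 1
          group
      _ = 0 := by simp [hN]
  intro a ha
  set d : Eˣ := a * (γ * a * γ⁻¹)⁻¹ with hd
  have hd1 : (⟨d, mul_mem ha (inv_mem (hγA a ha))⟩ : A) ∈ (ψ 1).range :=
    ⟨⟨a, ha⟩, Subtype.ext (by rw [hval, pow_one])⟩
  have hkey : ((d : E) - 1) * ∑ i ∈ Finset.range n, (∑ a : A, (((ψ i a : A) : Eˣ) : E)) * (γ : E) ^ i =
      (Nat.card A : E) * ((d : E) - 1) := by
    rw [Finset.mul_sum, Finset.sum_eq_single_of_mem 0 (Finset.mem_range.mpr hn)]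
    · rw [pow_zero, mul_one, Finset.sum_congr rfl (g := fun _ => (1 : E)) fun x _ => by rw [hval]; simp]
      rw [Finset.sum_const, Finset.card_univ, Nat.card_eq_fintype_card, nsmul_one, Nat.cast_comm]
    · intro i hi hi0
      obtain ⟨a0, ha0⟩ := (heq i (Nat.pos_of_ne_zero hi0) (Finset.mem_range.mp hi)).ge hd1
      have hinv : (d : E) * ∑ x : A, (((ψ i x : A) : Eˣ) : E) = ∑ x : A, (((ψ i x : A) : Eˣ) : E) := by
        rw [Finset.mul_sum]
        refine Fintype.sum_equiv (Equiv.mulLeft a0) _ _ fun x => ?_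
        rw [Equiv.coe_mulLeft, map_mul, ha0]
        simp [hd, mul_assoc]
      rw [← mul_assoc, sub_mul, hinv, one_mul, sub_self, zero_mul]
  rw [htot, mul_zero] at hkey
  have h1 : d = 1 := Units.ext (sub_eq_zero.mp (hunit _ hkey.symm))
  exact (mul_inv_eq_one.mp h1).symm

/-- An element without fixed points on an abelian group `V`, normalising a subgroup `A` acting
abelianly on `V`, whose relevant powers fix no more of `A` than it does, centralises `A` modulo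
the centralizer of `V`. -/
theorem fpf_abelian {V A : Subgroup G} (hV : ∀ a ∈ V, ∀ b ∈ V, a * b = b * a)
    (hcop : (Nat.card A).Coprime (Nat.card V)) (hAV : A ≤ normalizer (V : Set G))
    (hA : ∀ a ∈ A, ∀ b ∈ A, a * b * a⁻¹ * b⁻¹ ∈ centralizer (V : Set G)) {g : G} {n : ℕ} (hn : 0 < n)
    (hgn : g ^ n = 1) (hgV : g ∈ normalizer (V : Set G)) (hgA : g ∈ normalizer (A : Set G))
    (hfix : ∀ v ∈ V, Commute g v → v = 1)
    (hpow : ∀ i, 0 < i → i < n → ∀ a ∈ A, g ^ i * a * (g ^ i)⁻¹ * a⁻¹ ∈ centralizer (V : Set G) →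
      g * a * g⁻¹ * a⁻¹ ∈ centralizer (V : Set G)) :
    ∀ a ∈ A, g * a * g⁻¹ * a⁻¹ ∈ centralizer (V : Set G) := by
  letI : CommGroup V := { V.toGroup with mul_comm := fun a b => Subtype.ext (hV a a.2 b b.2) }
  let N := normalizer (V : Set G)
  let r : N →* AddMonoid.End (Additive V) :=
    { toFun := fun x => MonoidHom.toAdditive (MonoidHom.mk'
        (fun v : V => (⟨(x : G) * v * (x : G)⁻¹, conj_mem x.2 v.2⟩ : V))
        (fun a b => Subtype.ext (by simp [mul_assoc])))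
      map_one' := by
        ext v
        show (1 : G) * (Additive.toMul v : V) * (1 : G)⁻¹ = _
        simp
      map_mul' := fun x y => by
        ext v
        show ((x : G) * y) * (Additive.toMul v : V) * ((x : G) * y)⁻¹ =
          x * (y * (Additive.toMul v : V) * (y : G)⁻¹) * (x : G)⁻¹
        group }
  let ru : N →* (AddMonoid.End (Additive V))ˣ := r.toHomUnits
  have hker : ∀ x : N, ru x = 1 ↔ (x : G) ∈ centralizer (V : Set G) := by
    intro x
    rw [mem_centralizer_iff]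
    constructor
    · intro e v hv
      have h1 : (x : G) * v * (x : G)⁻¹ = v := congrArg (fun f : AddMonoid.End (Additive V) =>
        ((Additive.toMul (f (Additive.ofMul ⟨v, hv⟩)) : V) : G)) (congrArg Units.val e)
      exact (mul_inv_eq_iff_eq_mul.mp h1).symm
    · intro e
      refine Units.ext ?_
      ext v
      show (x : G) * (Additive.toMul v : V) * (x : G)⁻¹ = _
      rw [← e _ (Additive.toMul v : V).2, mul_inv_cancel_right]
      rfl
  have hrel : ∀ x y : N, ru x * ru y * (ru x)⁻¹ = ru y ↔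
      (x : G) * y * (x : G)⁻¹ * (y : G)⁻¹ ∈ centralizer (V : Set G) := by
    intro x y
    rw [← mul_inv_eq_one, ← map_inv, ← map_mul, ← map_mul, ← map_inv, ← map_mul, hker]
    rfl
  let A' := (A.subgroupOf N).map ru
  have hfin : Finite (A.subgroupOf N) := inferInstance
  haveI : Finite A' := Finite.of_surjective
    (fun x : A.subgroupOf N => (⟨ru x, mem_map_of_mem _ x.2⟩ : A'))
    fun ⟨_, x, hx, e⟩ => ⟨⟨x, hx⟩, Subtype.ext e⟩
  have hA' : ∀ a ∈ A', ∀ b ∈ A', a * b = b * a := by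
    rintro _ ⟨x, hx, rfl⟩ _ ⟨y, hy, rfl⟩
    exact mul_inv_eq_iff_eq_mul.mp ((hrel x y).mpr (hA _ hx _ hy))
  set γ := ru ⟨g, hgV⟩ with hγ
  have hγA : ∀ a ∈ A', γ * a * γ⁻¹ ∈ A' := by
    rintro _ ⟨x, hx, rfl⟩
    refine ⟨⟨g, hgV⟩ * x * ⟨g, hgV⟩⁻¹, conj_mem hgA hx, ?_⟩
    rw [map_mul, map_mul, map_inv]
  have hN : ∑ i ∈ Finset.range n, (γ : AddMonoid.End (Additive V)) ^ i = 0 := by
    ext v
    set w : V := Additive.toMul ((∑ i ∈ Finset.range n, (γ : AddMonoid.End (Additive V)) ^ i) v)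
    show (w : G) = 1
    refine hfix _ w.2 ?_
    have e : (γ : AddMonoid.End (Additive V)) * (∑ i ∈ Finset.range n, (γ : AddMonoid.End (Additive V)) ^ i) =
        ∑ i ∈ Finset.range n, (γ : AddMonoid.End (Additive V)) ^ i := by
      rw [← sub_eq_zero]
      calc (γ : AddMonoid.End (Additive V)) * (∑ i ∈ Finset.range n, (γ : AddMonoid.End (Additive V)) ^ i) -
            ∑ i ∈ Finset.range n, (γ : AddMonoid.End (Additive V)) ^ i
          = ((γ : AddMonoid.End (Additive V)) - 1) *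
              ∑ i ∈ Finset.range n, (γ : AddMonoid.End (Additive V)) ^ i := by rw [sub_mul, one_mul]
        _ = 0 := by
          rw [mul_geom_sum, hγ, ← Units.val_pow_eq_pow_val, ← map_pow,
            show (⟨g, hgV⟩ : N) ^ n = 1 from Subtype.ext hgn, map_one, Units.val_one, sub_self]
    have e2 : g * (w : G) * g⁻¹ = w := congrArg (fun f : AddMonoid.End (Additive V) =>
      ((Additive.toMul (f v) : V) : G)) e
    exact mul_inv_eq_iff_eq_mul.mp e2
  have hres := avg_lemma A' hA' γ hγA hn hN ?_ ?_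
  · intro a ha
    exact (hrel ⟨g, hgV⟩ ⟨a, hAV ha⟩).mp (hres _ ⟨⟨a, hAV ha⟩, ha, rfl⟩)
  · rintro i h0 hi _ ⟨x, hx, rfl⟩ e
    rw [hγ, ← map_pow, hrel] at e
    rw [hγ, hrel]
    exact hpow i h0 hi x hx e
  · intro x hx
    have hco : (Nat.card A').Coprime (Nat.card V) := by
      refine hcop.coprime_dvd_left ((Subgroup.card_map_dvd _ _).trans ?_)
      rw [Nat.card_congr (subgroupOfEquivOfLe (show A ≤ N from hAV)).toEquiv]
    ext v
    set w : V := Additive.toMul (x v) with hw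
    have h1 : w ^ Nat.card A' = 1 := by
      have := congrArg (fun f : AddMonoid.End (Additive V) => f v) hx
      rw [← nsmul_eq_mul] at this
      exact this
    show (w : G) = 1
    have h2 := pow_gcd_eq_one.mpr ⟨h1, pow_card_eq_one' (x := w)⟩
    rw [hco.gcd_eq_one, pow_one] at h2
    rw [h2]; rfl

/-- In an `r`-group with `Ω₁(Z) = ⟨u⟩`, an element of order `r` outside `⟨u⟩` yields one moved
by a translation in `⟨u⟩`. -/
theorem exists_translation {r : ℕ} (hr : r.Prime) {X : Subgroup G} (hX : IsPGroup r X) {u c : G}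
    (hZ : oz r X ≤ zpowers u) (huX : u ∈ oz r X) (hc : c ∈ X) (hcr : c ^ r = 1)
    (hcu : c ∉ zpowers u) :
    ∃ c' v u' : G, c' ∈ X ∧ c' ^ r = 1 ∧ c' ∉ zpowers u ∧ v ∈ X ∧ u' ∈ zpowers u ∧ u' ≠ 1 ∧
      v * c' * v⁻¹ = c' * u' := by
  classical
  have : Fact r.Prime := ⟨hr⟩
  obtain ⟨c0, ⟨hc0, hc0r, hc0u⟩, hmax⟩ := Set.Finite.exists_maximalFor
    (fun y : G => X ⊓ centralizer ({y} : Set G)) {y : G | y ∈ X ∧ y ^ r = 1 ∧ y ∉ zpowers u}
    (Set.toFinite _) ⟨c, hc, hcr, hcu⟩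
  set C := X ⊓ centralizer ({c0} : Set G) with hC
  have hCX : C < X := by
    refine lt_of_le_of_ne inf_le_left fun e => hc0u (hZ ⟨hc0, fun y hy => ?_, hc0r⟩)
    have hy' : y ∈ C := e.ge hy
    exact (mem_centralizer_singleton_iff.mp hy'.2).symm
  obtain ⟨v, hvX, hvC, hvn⟩ : ∃ v ∈ X, v ∉ C ∧ v ∈ normalizer (C : Set G) := by
    have hlt : C.subgroupOf X < ⊤ := lt_top_iff_ne_top.mpr fun e => not_le_of_gt hCX (subgroupOf_eq_top.mp e)
    obtain ⟨v, hv1, hv2⟩ := SetLike.exists_of_lt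
      (@Group.normalizerCondition_of_isNilpotent _ _ hX.isNilpotent (C.subgroupOf X) hlt)
    refine ⟨v, v.2, fun h => hv2 (mem_subgroupOf.mpr h), mem_normalizer_iff.mpr fun m => ?_⟩
    constructor
    · intro hm
      exact mem_subgroupOf.mp (((mem_normalizer_iff.mp hv1) ⟨m, hm.1⟩).mp (mem_subgroupOf.mpr hm))
    · intro hm
      have hmX : m ∈ X := by
        have := mul_mem (mul_mem (inv_mem v.2) hm.1) v.2
        simpa [mul_assoc] using this
      exact mem_subgroupOf.mp (((mem_normalizer_iff.mp hv1) ⟨m, hmX⟩).mpr (mem_subgroupOf.mpr hm))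
  set Z1 := oz r C with hZ1
  have hvZ : v ∈ normalizer (Z1 : Set G) := normalizer_le_oz r C hvn
  have hfixu : ∀ y ∈ Z1, Commute v y → y ∈ zpowers u := by
    intro y hy hvy
    by_contra hyu
    have hle : C ≤ X ⊓ centralizer ({y} : Set G) := fun x hx =>
      ⟨hx.1, mem_centralizer_singleton_iff.mpr (hy.2.1 x hx).symm⟩
    exact hvC (hmax ⟨oz_le r C hy |>.1, hy.2.2, hyu⟩ hle ⟨hvX, mem_centralizer_singleton_iff.mpr hvy⟩)
  have hc0Z : c0 ∈ Z1 := ⟨⟨hc0, mem_centralizer_singleton_iff.mpr rfl⟩,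
    fun y hy => (mem_centralizer_singleton_iff.mp hy.2).symm, hc0r⟩
  letI : CommGroup Z1 := { Z1.toGroup with
    mul_comm := fun a b => Subtype.ext (oz_comm r C a a.2 b b.2) }
  let δ : Z1 →* Z1 := MonoidHom.mk' (fun y => (⟨v * y * v⁻¹, conj_mem hvZ y.2⟩ : Z1) * y⁻¹) fun a b => by
    rw [mul_inv, mul_mul_mul_comm]
    congr 1
    exact Subtype.ext (show v * ((a : G) * b) * v⁻¹ = v * a * v⁻¹ * (v * b * v⁻¹) by group)
  have hδ : ∀ y : Z1, ((δ y : Z1) : G) = v * y * v⁻¹ * (y : G)⁻¹ := fun y => rfl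
  set I := δ.range.map Z1.subtype with hI
  have hIne : I ≠ ⊥ := by
    intro e
    have h0 : v * c0 * v⁻¹ * c0⁻¹ ∈ I := ⟨δ ⟨c0, hc0Z⟩, ⟨_, rfl⟩, rfl⟩
    rw [e, mem_bot] at h0
    exact hc0u (hfixu c0 hc0Z (commute_of_comm_eq h0))
  have hIn : zpowers v ≤ normalizer (I : Set G) := by
    rw [zpowers_le]
    have hfw : ∀ x ∈ I, v * x * v⁻¹ ∈ I := by
      rintro _ ⟨_, ⟨y, rfl⟩, rfl⟩
      refine ⟨δ ⟨v * y * v⁻¹, conj_mem hvZ y.2⟩, ⟨_, rfl⟩, ?_⟩
      show v * (v * y * v⁻¹) * v⁻¹ * (v * (y : G) * v⁻¹)⁻¹ = v * (v * y * v⁻¹ * (y : G)⁻¹) * v⁻¹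
      group
    refine mem_normalizer_iff.mpr fun x => ⟨hfw x, fun hx => ?_⟩
    have hinj : Function.Injective (fun x : I => (⟨v * x * v⁻¹, hfw x x.2⟩ : I)) :=
      fun a b e => Subtype.ext (mul_left_cancel (mul_right_cancel (congrArg Subtype.val e)))
    obtain ⟨y, hy⟩ := Finite.surjective_of_injective hinj ⟨_, hx⟩
    have hy' : v * (y : G) * v⁻¹ = v * x * v⁻¹ := congrArg Subtype.val hy
    rw [← mul_left_cancel (mul_right_cancel hy')]
    exact y.2
  letI : MulAction (zpowers v) I :=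
    { smul := fun a x => ⟨(a : G) * x * (a : G)⁻¹, conj_mem (hIn a.2) x.2⟩
      one_smul := fun x => Subtype.ext (show (1 : G) * x * (1 : G)⁻¹ = x by simp)
      mul_smul := fun a b x => Subtype.ext
        (show ((a : G) * b) * x * ((a : G) * b)⁻¹ = a * (b * x * (b : G)⁻¹) * (a : G)⁻¹ by group) }
  have hdvd : r ∣ Nat.card I := by
    obtain ⟨k, hk⟩ := ((isPGroup_oz r C).to_le (show I ≤ Z1 from map_subtype_le _)).exists_card_eq
    rw [hk]
    exact dvd_pow_self r fun e => hIne (card_eq_one.mp (by rw [hk, e, pow_zero]))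
  obtain ⟨w, hw, hw1⟩ := (hX.to_le (zpowers_le.mpr hvX)).exists_fixed_point_of_prime_dvd_card_of_fixed_point
    I hdvd (a := (1 : I)) (fun a => Subtype.ext (show (a : G) * 1 * (a : G)⁻¹ = 1 by simp))
  obtain ⟨_, ⟨y, rfl⟩, hy⟩ := w.2
  have hwu : (w : G) ∈ zpowers u := by
    refine hfixu _ (map_subtype_le _ w.2) ?_
    have h1 : v * (w : G) * v⁻¹ = w := congrArg Subtype.val (hw ⟨v, mem_zpowers v⟩)
    exact mul_inv_eq_iff_eq_mul.mp h1
  have hy' : v * (y : G) * v⁻¹ * (y : G)⁻¹ = w := hy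
  refine ⟨y, v, w, (oz_le r C y.2).1, y.2.2.2, fun hyu => hw1 (Subtype.ext ?_), hvX, hwu,
    fun e => hw1 (Subtype.ext e.symm), ?_⟩
  · show (1 : G) = (w : G)
    obtain ⟨k, hk⟩ := mem_zpowers_iff.mp hyu
    rw [← hy', ← hk, ((huX.2.1 v hvX).zpow_left k).symm.eq, mul_inv_cancel_right, mul_inv_cancel]
  · have hwX : (w : G) ∈ zpowers u := hwu
    obtain ⟨k, hk⟩ := mem_zpowers_iff.mp hwu
    have hcw : Commute (w : G) (y : G) := hk ▸ ((huX.2.1 _ (oz_le r C y.2).1).zpow_left k)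
    rw [← hcw.eq, ← hy', inv_mul_cancel_right]

/-- With a translation, fixed points of some element off `⟨u⟩` pass to `c`. -/
theorem meet_translation {r t : ℕ} (hr : r.Prime) (ht : t.Prime) (hrt : r ≠ t) {M : Subgroup G}
    (hM : IsPGroup t M) (hM1 : M ≠ ⊥) {u c v u' : G} (hu : u ^ r = 1) (hu'm : u' ∈ zpowers u)
    (hu' : u' ≠ 1) (hc : c ^ r = 1) (hcu : c ∉ zpowers u) (huc : Commute u c) (hvu : Commute v u)
    (hvc : v * c * v⁻¹ = c * u') (huM : u ∈ normalizer (M : Set G)) (hcM : c ∈ normalizer (M : Set G))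
    (hvM : v ∈ normalizer (M : Set G)) (hfpf : ¬ Meet t M u) : Meet t M c := by
  have : Fact t.Prime := ⟨ht⟩
  have hu1 : u ≠ 1 := by
    rintro rfl
    rw [zpowers_one_eq_bot, mem_bot] at hu'm
    exact hu' hu'm
  obtain ⟨A, hAL, hA, huA, hcA, hAmin⟩ :=
    exists_el hr hu hu1 hc huc hcu (L := normalizer (M : Set G)) huM hcM
  obtain ⟨a, ha, ha1, m, hm, hm1, hmt, ham⟩ := hA.exists_meet ht hrt hM hM1 hAL
  have hn : zpowers c ≤ normalizer (zpowers u : Set G) := by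
    refine le_trans (zpowers_le.mpr (mem_centralizer_iff.mpr ?_)) (centralizer_le_normalizer _)
    rintro x ⟨k, rfl⟩
    exact (huc.zpow_left k).eq
  obtain ⟨_, ⟨j, rfl⟩, _, ⟨i, rfl⟩, rfl⟩ :=
    (CfsgLib.Solvable.mem_sup_of_le_normalizer hn).mp
      (hAmin (zpowers u ⊔ zpowers c) (mem_sup_left (mem_zpowers u)) (mem_sup_right (mem_zpowers c)) ha)
  obtain ⟨j', hj'⟩ := mem_zpowers_iff.mp (zpowers_le.mpr (mem_zpowers_symm hr hu hu'm hu')
    ⟨j, rfl⟩ : u ^ j ∈ zpowers u')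
  have hci : c ^ i ≠ 1 := by
    intro e
    have hcomm : Commute (u ^ j) m := by simpa [e] using ham
    have huj : u ^ j ≠ 1 := fun e' => ha1 (by simp [e, e'])
    obtain ⟨l, hl⟩ := mem_zpowers_iff.mp (mem_zpowers_symm hr hu ⟨j, rfl⟩ huj)
    exact hfpf ⟨m, hm, hm1, hmt, hl ▸ hcomm.zpow_left l⟩
  have hu'r : u' ^ r = 1 := by
    obtain ⟨k, rfl⟩ := mem_zpowers_iff.mp hu'm
    rw [← zpow_natCast, ← zpow_mul, mul_comm, zpow_mul, zpow_natCast, hu, one_zpow]
  have hu'i : u' ^ i ≠ 1 := by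
    intro e
    apply hci
    obtain ⟨q, hq⟩ : (r : ℤ) ∣ i := by
      have : Fact r.Prime := ⟨hr⟩
      rw [← orderOf_eq_prime hu'r hu']
      exact orderOf_dvd_iff_zpow_eq_one.mpr e
    rw [hq, zpow_mul, zpow_natCast, hc, one_zpow]
  obtain ⟨k, hk⟩ := mem_zpowers_iff.mp
    (zpowers_le.mpr (mem_zpowers_symm hr hu'r ⟨i, rfl⟩ hu'i) ⟨-j', rfl⟩ : u' ^ (-j') ∈ zpowers (u' ^ i))
  have hvu' : Commute v u' := by
    obtain ⟨k, rfl⟩ := mem_zpowers_iff.mp hu'm
    exact hvu.zpow_right k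
  have hcu' : Commute c u' := by
    obtain ⟨k, rfl⟩ := mem_zpowers_iff.mp hu'm
    exact (huc.zpow_left k).symm
  have h1 : v * c ^ i * v⁻¹ = c ^ i * u' ^ i := by rw [← conj_zpow, hvc, hcu'.mul_zpow]
  have h2 : ∀ k : ℤ, v ^ k * c ^ i * (v ^ k)⁻¹ = c ^ i * (u' ^ i) ^ k := by
    intro k
    induction k using Int.induction_on with
    | zero => simp
    | succ n ih =>
      calc v ^ ((n : ℤ) + 1) * c ^ i * (v ^ ((n : ℤ) + 1))⁻¹
          = v * (v ^ (n : ℤ) * c ^ i * (v ^ (n : ℤ))⁻¹) * v⁻¹ := by group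
        _ = v * c ^ i * v⁻¹ * (v * (u' ^ i) ^ (n : ℤ) * v⁻¹) := by rw [ih]; group
        _ = c ^ i * u' ^ i * (u' ^ i) ^ (n : ℤ) := by
          rw [h1, ((hvu'.zpow_right i).zpow_right (n : ℤ)).eq, mul_inv_cancel_right]
        _ = c ^ i * (u' ^ i) ^ ((n : ℤ) + 1) := by group
    | pred n ih =>
      have h1' : v⁻¹ * c ^ i * v = c ^ i * (u' ^ i)⁻¹ := by
        rw [eq_mul_inv_iff_mul_eq]
        calc v⁻¹ * c ^ i * v * u' ^ i = v⁻¹ * (c ^ i * u' ^ i) * v := by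
              rw [mul_assoc _ v, (hvu'.zpow_right i).eq]; group
          _ = c ^ i := by rw [← h1]; group
      calc v ^ (-(n : ℤ) - 1) * c ^ i * (v ^ (-(n : ℤ) - 1))⁻¹
          = v⁻¹ * (v ^ (-(n : ℤ)) * c ^ i * (v ^ (-(n : ℤ)))⁻¹) * v := by group
        _ = v⁻¹ * c ^ i * v * (v⁻¹ * (u' ^ i) ^ (-(n : ℤ)) * v) := by rw [ih]; group
        _ = c ^ i * (u' ^ i)⁻¹ * (u' ^ i) ^ (-(n : ℤ)) := by
          rw [h1', mul_assoc v⁻¹ _ v, ← ((hvu'.zpow_right i).zpow_right (-(n : ℤ))).eq, inv_mul_cancel_left]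
        _ = c ^ i * (u' ^ i) ^ (-(n : ℤ) - 1) := by group
  have hconj : v ^ k * (u ^ j * c ^ i) * (v ^ k)⁻¹ = c ^ i := by
    calc v ^ k * (u ^ j * c ^ i) * (v ^ k)⁻¹
        = (v ^ k * u ^ j * (v ^ k)⁻¹) * (v ^ k * c ^ i * (v ^ k)⁻¹) := by group
      _ = u ^ j * (c ^ i * u' ^ (-j')) := by rw [h2, hk, (hvu.zpow_zpow k j).eq, mul_inv_cancel_right]
      _ = c ^ i := by
        rw [← hj', ← mul_assoc, ← (hcu'.zpow_zpow i j').eq, mul_assoc, ← zpow_add, add_neg_cancel,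
          zpow_zero, mul_one]
  refine ⟨v ^ k * m * (v ^ k)⁻¹, conj_mem (zpow_mem hvM k) hm, fun e => hm1 ?_,
    by rw [conj_pow, hmt, mul_one, mul_inv_cancel], ?_⟩
  · rwa [mul_inv_eq_one, mul_eq_left] at e
  · have hci' : Commute (c ^ i) (v ^ k * m * (v ^ k)⁻¹) := by
      rw [← hconj]
      exact ham.map (MulAut.conj (v ^ k)).toMonoidHom
    obtain ⟨l, hl⟩ := mem_zpowers_iff.mp (mem_zpowers_symm hr hc ⟨i, rfl⟩ hci)
    exact hl ▸ hci'.zpow_left l

end CfsgLib.FourPrimes
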